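import Groth.Prelude.Def_Coh
import Mathlib.AlgebraicGeometry.Morphisms.Etale
import Mathlib.RingTheory.Etale.Kaehler

/-! Derivations of the base ring extend to the structure sheaf of an étale scheme. -/

set_option autoImplicit false
universe u

noncomputable section

open CategoryTheory AlgebraicGeometry TopologicalSpace Opposite
open scoped TensorProduct

namespace DerCohLib

section Alg

variable {A : Type u} [CommRing A] (θ : Derivation ℤ A A)

/-- The extension of a derivation along a formally étale algebra. -/
def ext (B : Type u) [CommRing B] [Algebra A B] [Algebra.FormallyEtale A B] : Derivation ℤ B B :=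
  (((Algebra.linearMap A B).comp θ.liftKaehlerDifferential).liftBaseChange B ∘ₗ
    (KaehlerDifferential.tensorKaehlerEquivOfFormallyEtale ℤ A B).symm.toLinearMap).compDer
      (KaehlerDifferential.D ℤ B)

theorem ext_algebraMap (B : Type u) [CommRing B] [Algebra A B] [Algebra.FormallyEtale A B] (a : A) :
    ext θ B (algebraMap A B a) = algebraMap A B (θ a) := by
  show ((Algebra.linearMap A B).comp θ.liftKaehlerDifferential).liftBaseChange B
    ((KaehlerDifferential.tensorKaehlerEquivOfFormallyEtale ℤ A B).symm
      (KaehlerDifferential.D ℤ B (algebraMap A B a))) = _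
  rw [KaehlerDifferential.tensorKaehlerEquivOfFormallyEtale_symm_D_algebraMap]
  simp

/-- Two additive maps satisfying the Leibniz rule along a ring map out of a formally unramified
algebra agree as soon as they agree on the base. -/
theorem unique {B C : Type u} [CommRing B] [CommRing C] [Algebra A B] [Algebra.FormallyUnramified A B]
    (ψ : B →+* C) (D D' : B →+ C)
    (hD : ∀ x y, D (x * y) = ψ x * D y + ψ y * D x)
    (hD' : ∀ x y, D' (x * y) = ψ x * D' y + ψ y * D' x)
    (h : ∀ a, D (algebraMap A B a) = D' (algebraMap A B a)) : D = D' := by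
  letI : Algebra B C := ψ.toAlgebra
  letI : Algebra A C := (ψ.comp (algebraMap A B)).toAlgebra
  haveI : IsScalarTower A B C := IsScalarTower.of_algebraMap_eq fun _ => rfl
  let L : B →ₗ[A] C :=
    { toFun := fun x => D x - D' x
      map_add' := fun x y => by simp [map_add]; abel
      map_smul' := fun a x => by
        simp only [Algebra.smul_def, hD, hD', h, RingHom.id_apply]
        show _ = ψ (algebraMap A B a) * (D x - D' x)
        ring }
  let E : Derivation A B C := Derivation.mk' L fun x y => by
    show D (x * y) - D' (x * y) = ψ x * (D y - D' y) + ψ y * (D x - D' x)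
    rw [hD, hD']
    ring
  have hE : E = 0 := by
    haveI : Subsingleton (Derivation A B C) :=
      (KaehlerDifferential.linearMapEquivDerivation A B).symm.toEquiv.subsingleton
    exact Subsingleton.elim _ _
  exact AddMonoidHom.ext fun x => sub_eq_zero.1 (congrArg (fun E : Derivation A B C => E x) hE)

end Alg

variable {A : Type u} [CommRing A] {V : Scheme.{u}} (f : V ⟶ Spec (CommRingCat.of A))

/-- The structure map on the sections over an open. -/
def strMap (U : V.Opens) : A →+* Γ(V, U) :=
  ((Scheme.ΓSpecIso (CommRingCat.of A)).inv ≫ f.appLE ⊤ U le_top).hom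

theorem strMap_res {U U' : V.Opens} (h : U' ≤ U) (a : A) :
    (V.presheaf.map (homOfLE h).op).hom (strMap f U a) = strMap f U' a := by
  show ((Scheme.ΓSpecIso (CommRingCat.of A)).inv ≫ f.appLE ⊤ U le_top ≫ V.presheaf.map (homOfLE h).op).hom a = _
  erw [Scheme.Hom.appLE_map]
  rfl

theorem formallyEtale_strMap [Etale f] (U : V.affineOpens) :
    letI := (strMap f U.1).toAlgebra
    Algebra.FormallyEtale A Γ(V, U.1) := by
  letI := (strMap f U.1).toAlgebra
  have h1 : (f.appLE ⊤ U.1 le_top).hom.Etale :=
    HasRingHomProperty.appLE @Etale f inferInstance ⟨⊤, isAffineOpen_top _⟩ U le_top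
  have h2 : (strMap f U.1).Etale :=
    RingHom.Etale.respectsIso.2 _ (Scheme.ΓSpecIso (CommRingCat.of A)).symm.commRingCatIsoToRingEquiv h1
  have h3 : Algebra.Etale A Γ(V, U.1) := h2
  infer_instance

variable [Etale f] (θ : Derivation ℤ A A)

/-- The derivation on the sections over an affine open. -/
def extU (U : V.affineOpens) : Γ(V, U.1) →+ Γ(V, U.1) :=
  letI := (strMap f U.1).toAlgebra
  haveI := formallyEtale_strMap f U
  (ext θ Γ(V, U.1)).toLinearMap.toAddMonoidHom

theorem extU_leibniz (U : V.affineOpens) (x y : Γ(V, U.1)) :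
    extU f θ U (x * y) = x * extU f θ U y + y * extU f θ U x := by
  letI := (strMap f U.1).toAlgebra
  haveI := formallyEtale_strMap f U
  exact (ext θ Γ(V, U.1)).leibniz x y

theorem extU_strMap (U : V.affineOpens) (a : A) :
    extU f θ U (strMap f U.1 a) = strMap f U.1 (θ a) := by
  letI := (strMap f U.1).toAlgebra
  haveI := formallyEtale_strMap f U
  exact ext_algebraMap θ Γ(V, U.1) a

theorem extU_res {U U' : V.affineOpens} (h : U'.1 ≤ U.1) (x : Γ(V, U.1)) :
    (V.presheaf.map (homOfLE h).op).hom (extU f θ U x) =
      extU f θ U' ((V.presheaf.map (homOfLE h).op).hom x) := by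
  letI := (strMap f U.1).toAlgebra
  haveI := formallyEtale_strMap f U
  let r := (V.presheaf.map (homOfLE h).op).hom
  have := unique (A := A) r (r.toAddMonoidHom.comp (extU f θ U))
    ((extU f θ U').comp r.toAddMonoidHom) (fun x y => by simp [extU_leibniz]) (fun x y => by simp [extU_leibniz])
    (fun a => by
      show r (extU f θ U (strMap f U.1 a)) = extU f θ U' (r (strMap f U.1 a))
      rw [extU_strMap]
      show r (strMap f U.1 (θ a)) = extU f θ U' (r (strMap f U.1 a))
      rw [strMap_res f h, strMap_res f h, extU_strMap])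
  exact DFunLike.congr_fun this x

theorem isBasis_affine : Opens.IsBasis (Set.range fun U : V.affineOpens => U.1) := by
  rw [Subtype.range_coe_subtype]
  exact V.isBasis_affineOpens

/-- The operator on the structure sheaf, on the affine basis. -/
def derBasis : (inducedFunctor fun U : V.affineOpens => U.1).op ⋙ (Coh.toAb (Coh.structureModule V)).obj ⟶
    (inducedFunctor fun U : V.affineOpens => U.1).op ⋙ (Coh.toAb (Coh.structureModule V)).obj where
  app U := AddCommGrpCat.ofHom (extU f θ U.unop)
  naturality U U' g := AddCommGrpCat.hom_ext (AddMonoidHom.ext fun (x : Γ(V, U.unop.1)) => by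
    have h : U'.unop.1 ≤ U.unop.1 := leOfHom g.unop.hom
    exact (extU_res f θ h x).symm)

/-- The operator on the structure sheaf. -/
def derAb : Coh.toAb (Coh.structureModule V) ⟶ Coh.toAb (Coh.structureModule V) :=
  ⟨TopCat.Sheaf.restrictHomEquivHom (Coh.toAb (Coh.structureModule V)).obj
    (Coh.toAb (Coh.structureModule V)) isBasis_affine (derBasis f θ)⟩

theorem derAb_app (U : V.affineOpens) (x : Γ(V, U.1)) :
    (derAb f θ).hom.app (op U.1) x = extU f θ U x := by
  have := TopCat.Sheaf.extend_hom_app (Coh.toAb (Coh.structureModule V)).obj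
    (Coh.toAb (Coh.structureModule V)) isBasis_affine (derBasis f θ) U
  exact ConcreteCategory.congr_hom this x

theorem resTop_toGlobal (U : V.Opens) (a : A) :
    Coh.resTop V (op U) (Coh.toGlobal f a) = strMap f U a := rfl

theorem smulAb_comp_derAb (a : A) :
    Coh.smulAb (Coh.structureModule V) (Coh.toGlobal f a) ≫ derAb f θ =
      Coh.smulAb (Coh.structureModule V) (Coh.toGlobal f (θ a)) +
        derAb f θ ≫ Coh.smulAb (Coh.structureModule V) (Coh.toGlobal f a) := by
  apply Sheaf.hom_ext
  refine TopCat.Sheaf.hom_ext _ (Coh.toAb (Coh.structureModule V)) isBasis_affine fun U => ?_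
  refine AddCommGrpCat.hom_ext (AddMonoidHom.ext fun (x : Γ(V, U.1)) => ?_)
  let y : Γ(V, U.1) := (derAb f θ).hom.app (op U.1) x
  let z : Γ(V, U.1) := (derAb f θ).hom.app (op U.1) (strMap f U.1 a * x)
  show z = strMap f U.1 (θ a) * x + strMap f U.1 a * y
  have hy : y = extU f θ U x := derAb_app f θ U x
  have hz : z = extU f θ U (strMap f U.1 a * x) := derAb_app f θ U _
  rw [hy, hz, extU_leibniz, extU_strMap]
  ring

end DerCohLib
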